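import Mathlib

/-!
# S2553: subgroups of `GL(4,2)` with trivial `O_2` and `O_{2'}` : basic definitions
-/

set_option autoImplicit false

namespace Cfsg.Agent.Lib.Helper26.GL42

/-- `X` has no nontrivial solvable normal subgroup. -/
def NSN (X : Type*) [Group X] : Prop :=
  ∀ N : Subgroup X, N.Normal → Group.IsSolvable N → N = ⊥

/-- the conclusion of S2553 for an abstract group -/
def Concl (X : Type*) [Group X] : Prop :=
  (∃ n : ℕ, 5 ≤ n ∧ n ≤ 8 ∧ Nonempty (X ≃* alternatingGroup (Fin n))) ∨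
    Nonempty (X ≃* Equiv.Perm (Fin 5)) ∨ Nonempty (X ≃* Equiv.Perm (Fin 6)) ∨
    Nonempty (X ≃* GL (Fin 3) (ZMod 2))

theorem NSN.congr {X Y : Type*} [Group X] [Group Y] (e : X ≃* Y) (h : NSN X) : NSN Y := by
  intro N hN hs
  have h1 : (N.comap e.toMonoidHom).Normal := hN.comap _
  have h2 : Group.IsSolvable ↥(N.comap e.toMonoidHom) :=
    Group.isSolvable_of_isSolvable_injective (f := e.toMonoidHom.subgroupComap N) (by
      intro a b hab
      apply Subtype.ext
      apply e.injective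
      exact congrArg Subtype.val hab)
  have h3 := h _ h1 h2
  rw [eq_bot_iff] at h3 ⊢
  intro y hy
  have : e.symm y ∈ N.comap e.toMonoidHom := by
    simpa [Subgroup.mem_comap] using hy
  have h4 := h3 this
  rw [Subgroup.mem_bot] at h4 ⊢
  simpa using congrArg e h4

theorem Concl.congr {X Y : Type*} [Group X] [Group Y] (e : X ≃* Y) (h : Concl X) : Concl Y := by
  rcases h with ⟨n, h5, h8, ⟨f⟩⟩ | ⟨⟨f⟩⟩ | ⟨⟨f⟩⟩ | ⟨⟨f⟩⟩
  · exact Or.inl ⟨n, h5, h8, ⟨e.symm.trans f⟩⟩
  · exact Or.inr (Or.inl ⟨e.symm.trans f⟩)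
  · exact Or.inr (Or.inr (Or.inl ⟨e.symm.trans f⟩))
  · exact Or.inr (Or.inr (Or.inr ⟨e.symm.trans f⟩))

/-- a nontrivial group without solvable normal subgroups is not solvable -/
theorem NSN.not_isSolvable {X : Type*} [Group X] [Nontrivial X] (h : NSN X) :
    ¬ Group.IsSolvable X := by
  intro hs
  have h1 : Group.IsSolvable (⊤ : Subgroup X) := inferInstance
  have h2 := h ⊤ inferInstance h1
  exact top_ne_bot h2

end Cfsg.Agent.Lib.Helper26.GL42
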